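import Cfsg.Agent.Base

/-!
# Bourbaki's criterion for Coxeter systems

A group `W` generated by involutions `s i`, with subsets `P i` of `W` such that
`1 ∈ P i`, `P i ∩ s i P i = ∅` and `w ∈ P i`, `w s j ∉ P i` imply `s i w = w s j`,
satisfies the exchange condition and is a Coxeter group.
-/

set_option autoImplicit false

namespace CL.BN

/-- Product of a word in the generators. -/
def wprod {I M : Type*} [Monoid M] (f : I → M) (l : List I) : M := (l.map f).prod

section wprod
variable {I M : Type*} [Monoid M] (f : I → M)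

theorem wprod_nil : wprod f [] = 1 := by simp [wprod]
theorem wprod_cons (i : I) (l : List I) : wprod f (i :: l) = f i * wprod f l := by simp [wprod]
theorem wprod_append (l l' : List I) : wprod f (l ++ l') = wprod f l * wprod f l' := by
  simp [wprod]
theorem wprod_singleton (i : I) : wprod f [i] = f i := by simp [wprod]
theorem wprod_concat (i : I) (l : List I) : wprod f (l ++ [i]) = wprod f l * f i := by simp [wprod]

theorem map_wprod {N : Type*} [Monoid N] (φ : M →* N) (l : List I) :
    φ (wprod f l) = wprod (fun i => φ (f i)) l := by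
  induction l with
  | nil => simp [wprod]
  | cons i l ih => rw [wprod_cons, wprod_cons, map_mul, ih]

end wprod

theorem wprod_reverse {I M : Type*} [Group M] (f : I → M) (hf : ∀ i, f i * f i = 1) (l : List I) :
    wprod f l.reverse = (wprod f l)⁻¹ := by
  induction l with
  | nil => simp [wprod]
  | cons i l ih =>
    rw [List.reverse_cons, wprod_concat, ih, wprod_cons, mul_inv_rev,
      inv_eq_of_mul_eq_one_right (hf i)]

/-- The alternating word `i j i j ...` of length `n`. -/
def altW {I : Type*} : I → I → ℕ → List I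
  | _, _, 0 => []
  | i, j, n + 1 => i :: altW j i n

theorem wprod_altW_mul_inv {I M : Type*} [Group M] (f : I → M) (hf : ∀ i, f i * f i = 1) (n : ℕ) :
    ∀ i j : I, wprod f (altW i j n) * (wprod f (altW j i n))⁻¹ = (f i * f j) ^ n := by
  induction n with
  | zero => intro i j; simp [altW, wprod]
  | succ n ih =>
    intro i j
    have h1 : (f j)⁻¹ = f j := inv_eq_of_mul_eq_one_right (hf j)
    rw [altW, altW, wprod_cons, wprod_cons, mul_inv_rev, h1, mul_assoc, ← mul_assoc (wprod f _), ih j i,
      ← mul_assoc, ← mul_pow_mul, pow_succ, mul_assoc]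

/-- The first `k` letters of the word alternate `i, j, i, ...`. -/
def AltPre {I : Type*} : I → I → ℕ → List I → Prop
  | _, _, 0, _ => True
  | _, _, _ + 1, [] => True
  | i, j, k + 1, a :: l => a = i ∧ AltPre j i k l

theorem AltPre.dropLast {I : Type*} (k : ℕ) : ∀ (i j : I) (l : List I), AltPre i j k l →
    AltPre i j k l.dropLast := by
  induction k with
  | zero => intro i j l _; trivial
  | succ k ih =>
    intro i j l h
    match l, h with
    | [], _ => trivial
    | [_], _ => trivial
    | a :: b :: l, h =>
      rw [List.dropLast_cons_cons]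
      exact ⟨h.1, ih _ _ _ h.2⟩

theorem AltPre.eq_altW {I : Type*} (l : List I) : ∀ (i j : I) (k : ℕ), AltPre i j k l →
    l.length ≤ k → l = altW i j l.length := by
  induction l with
  | nil => intro i j k _ _; rfl
  | cons a l ih =>
    intro i j k h hk
    match k, h, hk with
    | 0, _, hk => simp at hk
    | k + 1, h, hk =>
      obtain ⟨rfl, h2⟩ := h
      rw [List.length_cons, altW, ← ih j a k h2 (by simpa using hk)]

theorem AltPre.mono {I : Type*} (k : ℕ) : ∀ (i j : I) (l : List I), AltPre i j (k + 1) l →
    AltPre i j k l := by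
  induction k with
  | zero => intro i j l _; trivial
  | succ k ih =>
    intro i j l h
    match l, h with
    | [], _ => trivial
    | a :: l, h => exact ⟨h.1, ih _ _ _ h.2⟩

/-- Bourbaki's data. -/
structure ExchData (I W : Type*) [Group W] where
  /-- the generators -/
  s : I → W
  /-- the sets of elements whose length goes up on left multiplication by `s i` -/
  P : I → Set W
  sq : ∀ i, s i * s i = 1
  gen : ∀ w, ∃ l : List I, wprod s l = w
  one_mem : ∀ i, (1 : W) ∈ P i
  not_both : ∀ i w, w ∈ P i → s i * w ∉ P i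
  step : ∀ i j w, w ∈ P i → w * s j ∉ P i → s i * w = w * s j

namespace ExchData

variable {I W : Type*} [Group W] (D : ExchData I W)

theorem s_ne_one (i : I) : D.s i ≠ 1 := fun h => D.not_both i 1 (D.one_mem i) (by
  rw [h, one_mul]; exact D.one_mem i)

theorem s_inv (i : I) : (D.s i)⁻¹ = D.s i := inv_eq_of_mul_eq_one_right (D.sq i)

theorem s_mul_s_mul (i : I) (w : W) : D.s i * (D.s i * w) = w := by
  rw [← mul_assoc, D.sq, one_mul]

theorem mul_s_mul_s (i : I) (w : W) : w * D.s i * D.s i = w := by
  rw [mul_assoc, D.sq, mul_one]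

theorem exists_word_length (w : W) : ∃ n, ∃ l : List I, l.length = n ∧ wprod D.s l = w := by
  obtain ⟨l, hl⟩ := D.gen w
  exact ⟨_, l, rfl, hl⟩

open Classical in
/-- The length function. -/
noncomputable def len (w : W) : ℕ := Nat.find (D.exists_word_length w)

/-- Reduced words. -/
def Reduced (l : List I) : Prop := D.len (wprod D.s l) = l.length

theorem exists_reduced (w : W) : ∃ l : List I, D.Reduced l ∧ wprod D.s l = w := by
  classical
  obtain ⟨l, h1, h2⟩ := Nat.find_spec (D.exists_word_length w)
  exact ⟨l, by rw [Reduced, h2, h1]; rfl, h2⟩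

theorem len_wprod_le (l : List I) : D.len (wprod D.s l) ≤ l.length := by
  classical
  exact Nat.find_min' (D.exists_word_length _) ⟨l, rfl, rfl⟩

theorem len_one : D.len 1 = 0 := Nat.le_zero.mp (D.len_wprod_le [])

theorem eq_one_of_len_eq_zero {w : W} (h : D.len w = 0) : w = 1 := by
  obtain ⟨l, h1, rfl⟩ := D.exists_reduced w
  rw [Reduced, h] at h1
  rw [List.length_eq_zero_iff.mp h1.symm, wprod_nil]

theorem len_mul_le (w w' : W) : D.len (w * w') ≤ D.len w + D.len w' := by
  obtain ⟨l, h1, rfl⟩ := D.exists_reduced w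
  obtain ⟨l', h1', rfl⟩ := D.exists_reduced w'
  rw [← wprod_append, h1, h1', ← List.length_append]
  exact D.len_wprod_le _

theorem len_s (i : I) : D.len (D.s i) = 1 := by
  have h1 := D.len_wprod_le [i]
  rw [wprod_singleton] at h1
  have h2 : D.len (D.s i) ≠ 0 := fun h => D.s_ne_one i (D.eq_one_of_len_eq_zero h)
  simp at h1
  omega

theorem len_inv (w : W) : D.len w⁻¹ = D.len w := by
  have key : ∀ w : W, D.len w⁻¹ ≤ D.len w := by
    intro w
    obtain ⟨l, h1, rfl⟩ := D.exists_reduced w
    rw [← wprod_reverse _ D.sq, h1, ← List.length_reverse]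
    exact D.len_wprod_le _
  exact le_antisymm (key w) (by simpa using key w⁻¹)

theorem len_s_mul_le (i : I) (w : W) : D.len (D.s i * w) ≤ D.len w + 1 := by
  have := D.len_mul_le (D.s i) w
  rw [D.len_s] at this; omega

theorem len_le_s_mul (i : I) (w : W) : D.len w ≤ D.len (D.s i * w) + 1 := by
  have := D.len_s_mul_le i (D.s i * w)
  rwa [D.s_mul_s_mul] at this

theorem len_mul_s_le (i : I) (w : W) : D.len (w * D.s i) ≤ D.len w + 1 := by
  have := D.len_mul_le w (D.s i)
  rwa [D.len_s] at this

theorem len_le_mul_s (i : I) (w : W) : D.len w ≤ D.len (w * D.s i) + 1 := by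
  have := D.len_mul_s_le i (w * D.s i)
  rwa [D.mul_s_mul_s] at this

theorem Reduced.nil : D.Reduced [] := D.len_one

variable {D} in
theorem Reduced.tail {i : I} {l : List I} (h : D.Reduced (i :: l)) : D.Reduced l := by
  have h1 := D.len_wprod_le l
  have h2 := D.len_s_mul_le i (wprod D.s l)
  rw [Reduced, wprod_cons, List.length_cons] at h
  rw [Reduced]; omega

variable {D} in
theorem Reduced.init {i : I} {l : List I} (h : D.Reduced (l ++ [i])) : D.Reduced l := by
  have h1 := D.len_wprod_le l
  have h2 := D.len_mul_s_le i (wprod D.s l)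
  rw [Reduced, wprod_concat, List.length_append, List.length_singleton] at h
  rw [Reduced]; omega

variable {D} in
theorem Reduced.reverse {l : List I} (h : D.Reduced l) : D.Reduced l.reverse := by
  rw [Reduced, wprod_reverse _ D.sq, D.len_inv, List.length_reverse]; exact h

/-- The exchange condition, for any word: if `w ∉ P i` then `s i * w` is obtained by deleting a letter. -/
theorem exchange (i : I) (l : List I) (h : wprod D.s l ∉ D.P i) :
    ∃ l₁ j l₂, l = l₁ ++ j :: l₂ ∧ D.s i * wprod D.s l = wprod D.s (l₁ ++ l₂) := by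
  induction l using List.reverseRecOn with
  | nil => exact absurd (D.one_mem i) h
  | append_singleton l j ih =>
    by_cases hl : wprod D.s l ∈ D.P i
    · refine ⟨l, j, [], rfl, ?_⟩
      rw [wprod_concat] at h ⊢
      rw [← mul_assoc, D.step i j _ hl h, D.mul_s_mul_s, List.append_nil]
    · obtain ⟨l₁, k, l₂, rfl, h2⟩ := ih hl
      refine ⟨l₁, k, l₂ ++ [j], by simp, ?_⟩
      rw [wprod_concat, ← mul_assoc, h2, ← wprod_concat, List.append_assoc]

theorem len_s_mul_of_not_mem {i : I} {w : W} (h : w ∉ D.P i) : D.len (D.s i * w) + 1 = D.len w := by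
  obtain ⟨l, h1, rfl⟩ := D.exists_reduced w
  obtain ⟨l₁, j, l₂, rfl, h2⟩ := D.exchange i l h
  have h3 := D.len_wprod_le (l₁ ++ l₂)
  have h4 := D.len_le_s_mul i (wprod D.s (l₁ ++ j :: l₂))
  rw [Reduced] at h1
  rw [← h2] at h3
  simp only [List.length_append, List.length_cons] at h1 h3
  omega

theorem len_s_mul_of_mem {i : I} {w : W} (h : w ∈ D.P i) : D.len (D.s i * w) = D.len w + 1 := by
  have := D.len_s_mul_of_not_mem (D.not_both i w h)
  rw [D.s_mul_s_mul] at this
  omega

theorem mem_P_iff {i : I} {w : W} : w ∈ D.P i ↔ D.len w < D.len (D.s i * w) := by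
  constructor
  · intro h; rw [D.len_s_mul_of_mem h]; omega
  · intro h; by_contra h'; have := D.len_s_mul_of_not_mem h'; omega

theorem s_mul_mem_of_not_mem {i : I} {w : W} (h : w ∉ D.P i) : D.s i * w ∈ D.P i := by
  rw [D.mem_P_iff, D.s_mul_s_mul]
  have := D.len_s_mul_of_not_mem h
  omega

variable {D} in
theorem Reduced.cons {i : I} {l : List I} (h : D.Reduced l) (hi : wprod D.s l ∈ D.P i) :
    D.Reduced (i :: l) := by
  rw [Reduced, wprod_cons, D.len_s_mul_of_mem hi, h, List.length_cons]

variable {D} in
theorem Reduced.tail_mem {i : I} {l : List I} (h : D.Reduced (i :: l)) : wprod D.s l ∈ D.P i := by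
  rw [D.mem_P_iff, ← wprod_cons, h, h.tail]; simp

variable {D} in
theorem Reduced.not_mem {i : I} {l : List I} (h : D.Reduced (i :: l)) :
    wprod D.s (i :: l) ∉ D.P i := by
  rw [wprod_cons]; exact D.not_both i _ h.tail_mem

/-- Every word has a reduced subword with the same product. -/
theorem exists_reduced_sublist (l : List I) :
    ∃ l' : List I, D.Reduced l' ∧ wprod D.s l' = wprod D.s l ∧ l'.Sublist l := by
  induction l with
  | nil => exact ⟨[], Reduced.nil D, rfl, List.Sublist.refl _⟩
  | cons i l ih =>
    obtain ⟨l', h1, h2, h3⟩ := ih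
    by_cases hi : wprod D.s l' ∈ D.P i
    · exact ⟨i :: l', h1.cons hi, by rw [wprod_cons, wprod_cons, h2], h3.cons_cons i⟩
    · obtain ⟨l₁, j, l₂, rfl, h4⟩ := D.exchange i l' hi
      refine ⟨l₁ ++ l₂, ?_, by rw [← h4, wprod_cons, h2], ?_⟩
      · have h5 := D.len_s_mul_of_not_mem hi
        rw [Reduced] at h1 ⊢
        rw [← h4]
        simp only [List.length_append, List.length_cons] at h1 ⊢
        omega
      · refine List.Sublist.cons i (List.Sublist.trans ?_ h3)
        exact (List.Sublist.refl l₁).append (List.sublist_cons_self j l₂)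

/-- Matsumoto's theorem for group-valued functions. -/
theorem wprod_eq_of_reduced {H : Type*} [Group H] (f : I → H) (hf : ∀ i, f i * f i = 1)
    (hb : ∀ i j n, (D.s i * D.s j) ^ n = 1 → (f i * f j) ^ n = 1) (n : ℕ) :
    ∀ l l' : List I, l.length = n → D.Reduced l → D.Reduced l' → wprod D.s l = wprod D.s l' →
      wprod f l = wprod f l' := by
  induction n with
  | zero =>
    intro l l' h1 h2 h3 h4
    have : l'.length = 0 := by rw [← h3, ← h4, h2, h1]
    rw [List.length_eq_zero_iff.mp h1, List.length_eq_zero_iff.mp this]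
  | succ n ih =>
    -- same first letter
    have hhead : ∀ (i : I) (l l' : List I), (i :: l).length = n + 1 → D.Reduced (i :: l) →
        D.Reduced (i :: l') → wprod D.s (i :: l) = wprod D.s (i :: l') →
        wprod f (i :: l) = wprod f (i :: l') := by
      intro i l l' h1 h2 h3 h4
      rw [wprod_cons, wprod_cons] at h4 ⊢
      rw [ih l l' (by simpa using h1) h2.tail h3.tail (mul_left_cancel h4)]
    have hlast : ∀ (i : I) (l l' : List I), (l ++ [i]).length = n + 1 → D.Reduced (l ++ [i]) →
        D.Reduced (l' ++ [i]) → wprod D.s (l ++ [i]) = wprod D.s (l' ++ [i]) →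
        wprod f (l ++ [i]) = wprod f (l' ++ [i]) := by
      intro i l l' h1 h2 h3 h4
      rw [wprod_concat, wprod_concat] at h4 ⊢
      rw [ih l l' (by simpa using h1) h2.init h3.init (mul_right_cancel h4)]
    have key : ∀ (m k : ℕ), n ≤ k + m → ∀ (i j : I) (l l' : List I), l.length = n + 1 → D.Reduced l →
        D.Reduced l' → wprod D.s l = wprod D.s l' → AltPre i j (k + 1) l → AltPre j i (k + 1) l' →
        wprod f l = wprod f l' := by
      intro m
      induction m with
      | zero =>
        intro k hk i j l l' h1 h2 h3 h4 h5 h6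
        have hl' : l'.length = n + 1 := by rw [← h3, ← h4, h2, h1]
        have e1 := AltPre.eq_altW l i j _ h5 (by omega)
        have e2 := AltPre.eq_altW l' j i _ h6 (by omega)
        rw [h1] at e1
        rw [hl'] at e2
        rw [e1, e2] at h4 ⊢
        rw [← mul_inv_eq_one, wprod_altW_mul_inv _ D.sq] at h4
        rw [← mul_inv_eq_one, wprod_altW_mul_inv _ hf]
        exact hb _ _ _ h4
      | succ m ihm =>
        intro k hk i j l l' h1 h2 h3 h4 h5 h6
        have hl' : l'.length = n + 1 := by rw [← h3, ← h4, h2, h1]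
        -- one exchange step
        have step : ∀ (i j : I) (l l' : List I), l.length = n + 1 → D.Reduced l →
            D.Reduced (j :: l') → wprod D.s l = wprod D.s (j :: l') →
            wprod f l = wprod f (j :: l') ∨
              (D.Reduced (j :: l.dropLast) ∧ wprod D.s (j :: l.dropLast) = wprod D.s l ∧
                wprod f (j :: l.dropLast) = wprod f (j :: l')) := by
          intro i j l l' h1 h2 h3 h4
          have hn : wprod D.s l ∉ D.P j := by rw [h4]; exact h3.not_mem
          obtain ⟨l₁, a, l₂, rfl, h7⟩ := D.exchange j l hn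
          have hp : wprod D.s (j :: (l₁ ++ l₂)) = wprod D.s (l₁ ++ a :: l₂) := by
            rw [wprod_cons, ← h7, D.s_mul_s_mul]
          have hlen : (j :: (l₁ ++ l₂)).length = n + 1 := by
            simp only [List.length_append, List.length_cons] at h1 ⊢; omega
          have hr : D.Reduced (j :: (l₁ ++ l₂)) := by rw [Reduced, hp, h2, h1, hlen]
          have hf1 : wprod f (j :: (l₁ ++ l₂)) = wprod f (j :: l') :=
            hhead j _ _ hlen hr h3 (hp.trans h4)
          rcases List.eq_nil_or_concat' l₂ with rfl | ⟨l₃, b, rfl⟩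
          · right
            have : (l₁ ++ [a]).dropLast = l₁ ++ [] := by simp
            rw [this]
            exact ⟨hr, hp, hf1⟩
          · left
            rw [← hf1]
            have e1 : l₁ ++ a :: (l₃ ++ [b]) = (l₁ ++ a :: l₃) ++ [b] := by simp
            have e2 : j :: (l₁ ++ (l₃ ++ [b])) = (j :: (l₁ ++ l₃)) ++ [b] := by simp
            rw [e1] at h1 h2 hp
            rw [e2] at hr hp
            rw [e1, e2]
            exact hlast b _ _ h1 h2 hr hp.symm
        match l, l', h1, hl', h2, h3, h4, h5, h6 with
        | a :: l, b :: l', h1, hl', h2, h3, h4, h5, h6 =>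
          obtain rfl : a = i := h5.1
          obtain rfl : b = j := h6.1
          rcases step a b _ _ h1 h2 h3 h4 with h | ⟨r1, p1, f1⟩
          · exact h
          have len1 : (b :: (a :: l).dropLast).length = n + 1 := by rw [← r1, p1, h2, h1]
          rcases step b a _ _ len1 r1 h2 p1 with h | ⟨r2, p2, f2⟩
          · rw [← h, f1]
          have len2 : (a :: (b :: (a :: l).dropLast).dropLast).length = n + 1 := by
            rw [← r2, p2, r1, len1]
          have a1 : AltPre b a (k + 1 + 1) (b :: (a :: l).dropLast) :=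
            ⟨rfl, AltPre.dropLast _ _ _ _ h5⟩
          have a2 : AltPre a b (k + 1 + 1) (a :: (b :: (a :: l).dropLast).dropLast) :=
            ⟨rfl, AltPre.dropLast _ _ _ _ (AltPre.mono _ _ _ _ a1)⟩
          have := ihm (k + 1) (by omega) a b _ _ len2 r2 r1 p2 a2 a1
          rw [← f2, this, f1]
    intro l l' h1 h2 h3 h4
    have hl' : l'.length = n + 1 := by rw [← h3, ← h4, h2, h1]
    match l, l', h1, hl', h2, h3, h4 with
    | a :: l, b :: l', h1, hl', h2, h3, h4 =>
      exact key n 0 (by omega) a b _ _ h1 h2 h3 h4 ⟨rfl, trivial⟩ ⟨rfl, trivial⟩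

/-- The universal property: a family of involutions satisfying the braid relations extends to a
homomorphism. -/
theorem exists_hom {H : Type*} [Group H] (f : I → H) (hf : ∀ i, f i * f i = 1)
    (hb : ∀ i j n, (D.s i * D.s j) ^ n = 1 → (f i * f j) ^ n = 1) :
    ∃ g : W →* H, ∀ i, g (D.s i) = f i := by
  classical
  let r : W → List I := fun w => (D.exists_reduced w).choose
  have hr1 : ∀ w, D.Reduced (r w) := fun w => (D.exists_reduced w).choose_spec.1
  have hr2 : ∀ w, wprod D.s (r w) = w := fun w => (D.exists_reduced w).choose_spec.2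
  let g : W → H := fun w => wprod f (r w)
  have hg : ∀ l, D.Reduced l → g (wprod D.s l) = wprod f l := fun l hl =>
    D.wprod_eq_of_reduced f hf hb _ _ _ rfl (hr1 _) hl (hr2 _)
  have hs0 : ∀ i w, w ∈ D.P i → g (D.s i * w) = f i * g w := by
    intro i w hw
    have h1 : D.Reduced (i :: r w) := (hr1 w).cons (by rw [hr2]; exact hw)
    have := hg _ h1
    rwa [wprod_cons, wprod_cons, hr2] at this
  have hs : ∀ i w, g (D.s i * w) = f i * g w := by
    intro i w
    by_cases hw : w ∈ D.P i
    · exact hs0 i w hw
    · have := hs0 i _ (D.s_mul_mem_of_not_mem hw)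
      rw [D.s_mul_s_mul] at this
      rw [this, ← mul_assoc, hf, one_mul]
  have h1 : g 1 = 1 := hg [] (Reduced.nil D)
  have hmul : ∀ (l : List I) (w : W), g (wprod D.s l * w) = g (wprod D.s l) * g w := by
    intro l w
    induction l with
    | nil => rw [wprod_nil, one_mul, h1, one_mul]
    | cons i l ih => rw [wprod_cons, mul_assoc, hs, hs, ih, mul_assoc]
  refine ⟨MonoidHom.mk' g (fun a b => ?_), fun i => ?_⟩
  · obtain ⟨l, rfl⟩ := D.gen a
    exact hmul l b
  · have := hs i 1
    rw [mul_one, h1, mul_one] at this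
    exact this

/-- Bourbaki's criterion: any Coxeter matrix whose entries are the orders of the products `s i * s j`
gives a Coxeter system on `W` with simple reflections `s i`. -/
theorem exists_coxeterSystem (M : CoxeterMatrix I) (hM : ∀ i j, M i j = orderOf (D.s i * D.s j)) :
    ∃ cs : CoxeterSystem M W, ∀ i, cs.simple i = D.s i := by
  have hl : M.IsLiftable D.s := fun i j => by rw [hM]; exact pow_orderOf_eq_one _
  let φ : M.Group →* W := M.toCoxeterSystem.lift ⟨D.s, hl⟩
  have hφ : ∀ i, φ (M.simple i) = D.s i := fun i => M.toCoxeterSystem.lift_apply_simple hl i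
  obtain ⟨g, hg⟩ := D.exists_hom M.simple (fun i => M.toCoxeterSystem.simple_mul_simple_self i)
    (fun i j n hn => by
      obtain ⟨c, rfl⟩ := orderOf_dvd_of_pow_eq_one hn
      have := M.toCoxeterSystem.simple_mul_simple_pow i j
      rw [CoxeterMatrix.toCoxeterSystem_simple, hM] at this
      rw [pow_mul, this, one_pow])
  have h1 : g.comp φ = MonoidHom.id _ := by
    apply M.toCoxeterSystem.ext_simple
    intro i
    simp [hφ, hg]
  have h2 : φ.comp g = MonoidHom.id _ := by
    ext w
    obtain ⟨l, rfl⟩ := D.gen w
    rw [MonoidHom.comp_apply, map_wprod, map_wprod]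
    simp [hg, hφ]
  refine ⟨⟨MonoidHom.toMulEquiv g φ h2 h1⟩, fun i => ?_⟩
  exact hφ i

/-- The Coxeter matrix of orders, when the generators are pairwise distinct. -/
noncomputable def coxeterMatrix (hinj : Function.Injective D.s) : CoxeterMatrix I where
  M := Matrix.of fun i j => orderOf (D.s i * D.s j)
  isSymm := by
    ext i j
    simp only [Matrix.transpose_apply, Matrix.of_apply]
    rw [← orderOf_inv, mul_inv_rev, D.s_inv, D.s_inv]
  diagonal i := by simp [D.sq]
  off_diagonal i j hij h := by
    simp only [Matrix.of_apply, orderOf_eq_one_iff] at h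
    apply hij
    apply hinj
    rw [← D.s_inv i]
    exact inv_eq_of_mul_eq_one_right h

end ExchData

end CL.BN
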