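import Cfsg.Agent.Base
import Cfsg.Agent.BN.Exchange

/-!
# (B,N)-pairs: Weyl group, Bruhat cells, Bruhat decomposition
-/

set_option autoImplicit false

namespace CL.BN

open Cfsg DoubleCoset

variable {G : Type*} [Group G] (P : BNPair G)

/-- `B ⊓ N` as a subgroup of `N`. -/
abbrev T : Subgroup P.N := (P.B ⊓ P.N).subgroupOf P.N

theorem mem_T {n : P.N} : n ∈ T P ↔ (n : G) ∈ P.B := by
  simp [T, Subgroup.mem_subgroupOf]

theorem T_normal : (T P).Normal := ⟨fun t ht n => by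
  rw [mem_T] at ht ⊢
  exact P.conj_mem n n.2 t ⟨ht, t.2⟩⟩

/-- The Weyl group `W = N / (B ⊓ N)`. -/
abbrev W : Type _ := P.N ⧸ T P

scoped instance instNormalT : (T P).Normal := T_normal P

/-- The image in `W` of an element of `N`. -/
def wmk (n : G) (hn : n ∈ P.N) : W P := QuotientGroup.mk (⟨n, hn⟩ : P.N)

theorem wmk_mul {n n' : G} (hn : n ∈ P.N) (hn' : n' ∈ P.N) :
    wmk P (n * n') (P.N.mul_mem hn hn') = wmk P n hn * wmk P n' hn' := rfl

theorem wmk_inv {n : G} (hn : n ∈ P.N) : wmk P n⁻¹ (P.N.inv_mem hn) = (wmk P n hn)⁻¹ := rfl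

theorem wmk_one : wmk P 1 P.N.one_mem = 1 := rfl

theorem wmk_eq_iff {n n' : G} (hn : n ∈ P.N) (hn' : n' ∈ P.N) :
    wmk P n hn = wmk P n' hn' ↔ n⁻¹ * n' ∈ P.B := by
  rw [wmk, wmk, QuotientGroup.eq, mem_T]; rfl

theorem wmk_eq_one_iff {n : G} (hn : n ∈ P.N) : wmk P n hn = 1 ↔ n ∈ P.B := by
  rw [← wmk_one, wmk_eq_iff, mul_one, P.B.inv_mem_iff]

theorem exists_wmk (w : W P) : ∃ n hn, wmk P n hn = w := by
  obtain ⟨⟨n, hn⟩, rfl⟩ := QuotientGroup.mk_surjective w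
  exact ⟨n, hn, rfl⟩

/-- The simple reflections. -/
def sw (s : P.S) : W P := wmk P s (P.subset s.2)

theorem sw_sq (s : P.S) : sw P s * sw P s = 1 := by
  rw [sw, ← wmk_mul, wmk_eq_one_iff]; exact P.sq_mem s s.2

theorem sw_injective : Function.Injective (sw P) := fun s t h =>
  Subtype.ext (P.inj s s.2 t t.2 ((wmk_eq_iff P _ _).mp h))

theorem sw_inv (s : P.S) : (sw P s)⁻¹ = sw P s := inv_eq_of_mul_eq_one_right (sw_sq P s)

theorem exists_word (w : W P) : ∃ l : List P.S, wprod (sw P) l = w := by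
  obtain ⟨n, hn, rfl⟩ := exists_wmk P w
  let K : Subgroup G :=
    { carrier := {g | ∃ hg : g ∈ P.N, ∃ l : List P.S, wprod (sw P) l = wmk P g hg}
      one_mem' := ⟨P.N.one_mem, [], rfl⟩
      mul_mem' := by
        rintro a b ⟨ha, l, hl⟩ ⟨hb, l', hl'⟩
        exact ⟨P.N.mul_mem ha hb, l ++ l', by rw [wprod_append, hl, hl', wmk_mul]⟩
      inv_mem' := by
        rintro a ⟨ha, l, hl⟩
        exact ⟨P.N.inv_mem ha, l.reverse, by rw [wprod_reverse _ (sw_sq P), hl, wmk_inv]⟩ }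
  have : P.N ≤ K := by
    rw [← P.closure_sup]
    refine sup_le ((Subgroup.closure_le _).mpr fun s hs => ?_) (fun t ht => ?_)
    · exact ⟨P.subset hs, [⟨s, hs⟩], wprod_singleton _ _⟩
    · exact ⟨ht.2, [], ((wmk_eq_one_iff P ht.2).mpr ht.1).symm⟩
  obtain ⟨_, l, hl⟩ := this hn
  exact ⟨l, hl⟩

/-- The Bruhat cell `B w B`. -/
def cell (w : W P) : Set G := {g | ∃ n hn, wmk P n hn = w ∧ g ∈ doubleCoset n (P.B : Set G) P.B}

theorem cell_wmk {n : G} (hn : n ∈ P.N) : cell P (wmk P n hn) = doubleCoset n (P.B : Set G) P.B := by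
  ext g
  constructor
  · rintro ⟨n', hn', h1, h2⟩
    rw [wmk_eq_iff] at h1
    obtain ⟨b, hb, b', hb', rfl⟩ := mem_doubleCoset.mp h2
    exact mem_doubleCoset.mpr ⟨b, hb, (n'⁻¹ * n)⁻¹ * b', P.B.mul_mem (P.B.inv_mem h1) hb', by group⟩
  · intro h; exact ⟨n, hn, rfl, h⟩

theorem mem_cell_wmk {n g : G} (hn : n ∈ P.N) :
    g ∈ cell P (wmk P n hn) ↔ ∃ b ∈ P.B, ∃ b' ∈ P.B, g = b * n * b' := by
  rw [cell_wmk, mem_doubleCoset]; rfl

theorem self_mem_cell {n : G} (hn : n ∈ P.N) : n ∈ cell P (wmk P n hn) := by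
  rw [cell_wmk]; exact mem_doubleCoset_self _ _ _

theorem cell_nonempty (w : W P) : (cell P w).Nonempty := by
  obtain ⟨n, hn, rfl⟩ := exists_wmk P w
  exact ⟨n, self_mem_cell P hn⟩

theorem mem_cell_one {g : G} : g ∈ cell P 1 ↔ g ∈ P.B := by
  rw [← wmk_one, mem_cell_wmk]
  constructor
  · rintro ⟨b, hb, b', hb', rfl⟩; rw [mul_one]; exact P.B.mul_mem hb hb'
  · intro h; exact ⟨g, h, 1, P.B.one_mem, by simp⟩

variable {P} in
theorem cell_mul_left {w : W P} {g b : G} (hb : b ∈ P.B) (hg : g ∈ cell P w) : b * g ∈ cell P w := by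
  obtain ⟨n, hn, rfl⟩ := exists_wmk P w
  rw [mem_cell_wmk] at hg ⊢
  obtain ⟨c, hc, c', hc', rfl⟩ := hg
  exact ⟨b * c, P.B.mul_mem hb hc, c', hc', by group⟩

variable {P} in
theorem cell_mul_right {w : W P} {g b : G} (hb : b ∈ P.B) (hg : g ∈ cell P w) : g * b ∈ cell P w := by
  obtain ⟨n, hn, rfl⟩ := exists_wmk P w
  rw [mem_cell_wmk] at hg ⊢
  obtain ⟨c, hc, c', hc', rfl⟩ := hg
  exact ⟨c, hc, c' * b, P.B.mul_mem hc' hb, by group⟩

variable {P} in
theorem cell_inv {w : W P} {g : G} (hg : g ∈ cell P w) : g⁻¹ ∈ cell P w⁻¹ := by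
  obtain ⟨n, hn, rfl⟩ := exists_wmk P w
  rw [← wmk_inv]
  rw [mem_cell_wmk] at hg ⊢
  obtain ⟨c, hc, c', hc', rfl⟩ := hg
  exact ⟨c'⁻¹, P.B.inv_mem hc', c⁻¹, P.B.inv_mem hc, by group⟩

variable {P} in
/-- Two elements of one cell lie in one double coset. -/
theorem cell_exists {w : W P} {g g' : G} (hg : g ∈ cell P w) (hg' : g' ∈ cell P w) :
    ∃ b ∈ P.B, ∃ b' ∈ P.B, g' = b * g * b' := by
  obtain ⟨n, hn, rfl⟩ := exists_wmk P w
  rw [mem_cell_wmk] at hg hg'
  obtain ⟨c, hc, c', hc', rfl⟩ := hg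
  obtain ⟨d, hd, d', hd', rfl⟩ := hg'
  exact ⟨d * c⁻¹, P.B.mul_mem hd (P.B.inv_mem hc), c'⁻¹ * d', P.B.mul_mem (P.B.inv_mem hc') hd',
    by group⟩

variable {P} in
theorem cell_subset_of_mem {w w' : W P} {g : G} (hg : g ∈ cell P w) (hg' : g ∈ cell P w') :
    cell P w ⊆ cell P w' := fun x hx => by
  obtain ⟨b, hb, b', hb', rfl⟩ := cell_exists hg hx
  exact cell_mul_right hb' (cell_mul_left hb hg')

variable {P} in
theorem cell_mul_exists {w w' : W P} {g : G} (hg : g ∈ cell P (w * w')) :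
    ∃ x ∈ cell P w, ∃ y ∈ cell P w', g = x * y := by
  obtain ⟨n, hn, rfl⟩ := exists_wmk P w
  obtain ⟨n', hn', rfl⟩ := exists_wmk P w'
  rw [← wmk_mul, mem_cell_wmk] at hg
  obtain ⟨c, hc, c', hc', rfl⟩ := hg
  exact ⟨c * n, cell_mul_left hc (self_mem_cell P hn), n' * c', cell_mul_right hc' (self_mem_cell P hn'),
    by group⟩

variable {P} in
/-- `C(s) C(w) ⊆ C(s w) ∪ C(w)`. -/
theorem cell_s_mul {s : P.S} {w : W P} {x y : G} (hx : x ∈ cell P (sw P s)) (hy : y ∈ cell P w) :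
    x * y ∈ cell P (sw P s * w) ∨ x * y ∈ cell P w := by
  obtain ⟨n, hn, rfl⟩ := exists_wmk P w
  rw [sw, mem_cell_wmk] at hx
  rw [mem_cell_wmk] at hy
  obtain ⟨c, hc, c', hc', rfl⟩ := hx
  obtain ⟨d, hd, d', hd', rfl⟩ := hy
  have e : c * s * c' * (d * n * d') = c * ((s : G) * (c' * d) * n) * d' := by group
  rw [e]
  rcases P.mul_mem_union s s.2 n hn (c' * d) (P.B.mul_mem hc' hd) with h | h
  · left
    rw [← cell_wmk P (P.N.mul_mem (P.subset s.2) hn), wmk_mul P (P.subset s.2) hn] at h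
    exact cell_mul_right hd' (cell_mul_left hc h)
  · right
    rw [← cell_wmk P hn] at h
    exact cell_mul_right hd' (cell_mul_left hc h)

variable {P} in
/-- `C(w) C(s) ⊆ C(w s) ∪ C(w)`. -/
theorem cell_mul_s {s : P.S} {w : W P} {x y : G} (hx : x ∈ cell P w) (hy : y ∈ cell P (sw P s)) :
    x * y ∈ cell P (w * sw P s) ∨ x * y ∈ cell P w := by
  have hy' := cell_inv hy
  rw [sw_inv] at hy'
  rcases cell_s_mul hy' (cell_inv hx) with h | h
  · left
    have := cell_inv h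
    rwa [mul_inv_rev, mul_inv_rev, inv_inv, inv_inv, inv_inv, sw_inv] at this
  · right
    have := cell_inv h
    rwa [mul_inv_rev, inv_inv, inv_inv, inv_inv] at this

theorem exists_s_conj_not_mem (s : P.S) : ∃ b ∈ P.B, (s : G) * b * s ∉ P.B := by
  by_contra! h
  apply P.conj_ne s s.2
  apply Set.Subset.antisymm
  · rintro _ ⟨b, hb, rfl⟩; exact h b hb
  · intro b hb
    have h2 := P.B.inv_mem (P.sq_mem s s.2)
    refine ⟨((s : G) * s)⁻¹ * (s * b * s) * ((s : G) * s)⁻¹,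
      P.B.mul_mem (P.B.mul_mem h2 (h b hb)) h2, ?_⟩
    simp only
    group

theorem s_not_mem_B (s : P.S) : (s : G) ∉ P.B := fun hs => by
  obtain ⟨b, hb, h⟩ := exists_s_conj_not_mem P s
  exact h (P.B.mul_mem (P.B.mul_mem hs hb) hs)

theorem sw_ne_one (s : P.S) : sw P s ≠ 1 := fun h => s_not_mem_B P s ((wmk_eq_one_iff P _).mp h)

theorem s_mem_cell (s : P.S) : (s : G) ∈ cell P (sw P s) := self_mem_cell P _

/-- `C(s) C(s)` meets `C(s)`. -/
theorem exists_cell_s_mul_s (s : P.S) : ∃ x ∈ cell P (sw P s), ∃ y ∈ cell P (sw P s),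
    x * y ∈ cell P (sw P s) := by
  obtain ⟨b, hb, h⟩ := exists_s_conj_not_mem P s
  have h1 := cell_mul_right hb (s_mem_cell P s)
  refine ⟨_, h1, _, s_mem_cell P s, ?_⟩
  rcases cell_s_mul h1 (s_mem_cell P s) with h2 | h2
  · rw [sw_sq, mem_cell_one] at h2; exact absurd h2 h
  · exact h2

/-- Bruhat decomposition, uniqueness. -/
theorem eq_of_mem_cell_aux (l : List P.S) : ∀ (w : W P) (g : G),
    (∀ l' : List P.S, wprod (sw P) l' = w → l.length ≤ l'.length) →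
    g ∈ cell P w → g ∈ cell P (wprod (sw P) l) → w = wprod (sw P) l := by
  induction l with
  | nil =>
    intro w g _ h1 h2
    obtain ⟨n, hn, rfl⟩ := exists_wmk P w
    have := cell_subset_of_mem h1 h2 (self_mem_cell P hn)
    rw [wprod_nil, mem_cell_one] at this
    rw [wprod_nil, wmk_eq_one_iff]; exact this
  | cons s l ih =>
    intro w g hmin h1 h2
    obtain ⟨z, hz⟩ := cell_nonempty P (wprod (sw P) l)
    have hz' : z ∈ cell P (sw P s * wprod (sw P) (s :: l)) := by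
      rwa [wprod_cons, ← mul_assoc, sw_sq, one_mul]
    obtain ⟨x, hx, y, hy, rfl⟩ := cell_mul_exists hz'
    have hy' := cell_subset_of_mem h2 h1 hy
    rcases cell_s_mul hx hy' with h | h
    · have := ih _ _ (fun l' hl' => by
        have := hmin (s :: l') (by rw [wprod_cons, hl', ← mul_assoc, sw_sq, one_mul])
        simpa using this) h hz
      rw [wprod_cons, ← this, ← mul_assoc, sw_sq, one_mul]
    · have := ih _ _ (fun l' hl' => by
        have := hmin l' hl'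
        simp at this; omega) h hz
      have := hmin l this.symm
      simp at this

variable {P} in
theorem eq_of_mem_cell {w w' : W P} {g : G} (h : g ∈ cell P w) (h' : g ∈ cell P w') : w = w' := by
  classical
  have hex : ∃ n, ∃ l : List P.S, l.length = n ∧ (wprod (sw P) l = w ∨ wprod (sw P) l = w') := by
    obtain ⟨l, hl⟩ := exists_word P w
    exact ⟨_, l, rfl, Or.inl hl⟩
  obtain ⟨l, hl, h1⟩ := Nat.find_spec hex
  rcases h1 with rfl | rfl
  · exact (eq_of_mem_cell_aux P l w' g (fun l' hl' => hl ▸ Nat.find_min' hex ⟨l', rfl, Or.inr hl'⟩)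
      h' h).symm
  · exact eq_of_mem_cell_aux P l w g (fun l' hl' => hl ▸ Nat.find_min' hex ⟨l', rfl, Or.inl hl'⟩) h h'

/-- The exchange data of a (B,N)-pair. -/
def exch : ExchData P.S (W P) where
  s := sw P
  P s := {w | ∀ x ∈ cell P (sw P s), ∀ y ∈ cell P w, x * y ∈ cell P (sw P s * w)}
  sq := sw_sq P
  gen := exists_word P
  one_mem s := fun x hx y hy => by
    rw [mem_cell_one] at hy
    rw [mul_one]; exact cell_mul_right hy hx
  not_both s w h1 h2 := by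
    obtain ⟨x, hx, y, hy, hxy⟩ := exists_cell_s_mul_s P s
    obtain ⟨z, hz⟩ := cell_nonempty P w
    have h3 := h2 x hx _ (h1 y hy z hz)
    have h4 := h1 _ hxy z hz
    rw [← mul_assoc (sw P s), sw_sq, one_mul, ← mul_assoc] at h3
    have := eq_of_mem_cell h3 h4
    exact sw_ne_one P s (by simpa using this.symm)
  step s t w h1 h2 := by
    simp only [Set.mem_ofPred_eq, not_forall] at h2
    obtain ⟨x, hx, y, hy, h2⟩ := h2
    have h3 := (cell_s_mul hx hy).resolve_left h2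
    obtain ⟨a, ha, b, hb, rfl⟩ := cell_mul_exists hy
    rw [← mul_assoc] at h3
    rcases cell_mul_s (h1 x hx a ha) hb with h | h
    · rw [← mul_assoc, ← mul_assoc] at h2; exact absurd h h2
    · exact eq_of_mem_cell h h3

theorem exch_s : (exch P).s = sw P := rfl

theorem mem_exch_P {s : P.S} {w : W P} : w ∈ (exch P).P s ↔
    ∀ x ∈ cell P (sw P s), ∀ y ∈ cell P w, x * y ∈ cell P (sw P s * w) := Iff.rfl

/-- If `s w` is shorter than `w` then `s b n ∈ B n B` for some `b`. -/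
theorem exists_mul_mem_cell_of_not_mem {s : P.S} {w : W P} (h : w ∉ (exch P).P s) :
    ∃ x ∈ cell P (sw P s), ∃ y ∈ cell P w, x * y ∈ cell P w := by
  simp only [mem_exch_P, not_forall] at h
  obtain ⟨x, hx, y, hy, h⟩ := h
  exact ⟨x, hx, y, hy, (cell_s_mul hx hy).resolve_left h⟩

/-- The subgroup `W_J` of the Weyl group, as the set of products of words in `J`. -/
def WJ (J : Set G) : Subgroup (W P) where
  carrier := {w | ∃ l : List P.S, (∀ s ∈ l, (s : G) ∈ J) ∧ wprod (sw P) l = w}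
  one_mem' := ⟨[], by simp, rfl⟩
  mul_mem' := by
    rintro _ _ ⟨l, h, rfl⟩ ⟨l', h', rfl⟩
    refine ⟨l ++ l', fun s hs => ?_, wprod_append _ _ _⟩
    rcases List.mem_append.mp hs with hs | hs
    · exact h s hs
    · exact h' s hs
  inv_mem' := by
    rintro _ ⟨l, h, rfl⟩
    exact ⟨l.reverse, fun s hs => h s (List.mem_reverse.mp hs), wprod_reverse _ (sw_sq P) _⟩

theorem sw_mem_WJ {J : Set G} {s : P.S} (hs : (s : G) ∈ J) : sw P s ∈ WJ P J :=
  ⟨[s], by simpa using hs, wprod_singleton _ _⟩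

theorem cell_mul_mem_WJ {J : Set G} (l : List P.S) (hl : ∀ s ∈ l, (s : G) ∈ J) :
    ∀ x ∈ cell P (wprod (sw P) l), ∀ w ∈ WJ P J, ∀ y ∈ cell P w, ∃ w' ∈ WJ P J, x * y ∈ cell P w' := by
  induction l with
  | nil =>
    intro x hx w hw y hy
    rw [wprod_nil, mem_cell_one] at hx
    exact ⟨w, hw, cell_mul_left hx hy⟩
  | cons s l ih =>
    intro x hx w hw y hy
    rw [wprod_cons] at hx
    obtain ⟨a, ha, b, hb, rfl⟩ := cell_mul_exists hx
    obtain ⟨w', hw', h⟩ := ih (fun t ht => hl t (List.mem_cons_of_mem _ ht)) b hb w hw y hy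
    rw [mul_assoc]
    rcases cell_s_mul ha h with h1 | h1
    · exact ⟨_, (WJ P J).mul_mem (sw_mem_WJ P (hl s List.mem_cons_self)) hw', h1⟩
    · exact ⟨_, hw', h1⟩

/-- `B W_J B` as a subgroup. -/
def BWB (J : Set G) : Subgroup G where
  carrier := {g | ∃ w ∈ WJ P J, g ∈ cell P w}
  one_mem' := ⟨1, (WJ P J).one_mem, (mem_cell_one P).mpr P.B.one_mem⟩
  mul_mem' := by
    rintro x y ⟨_, ⟨l, hl, rfl⟩, hx⟩ ⟨w, hw, hy⟩
    exact cell_mul_mem_WJ P l hl x hx w hw y hy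
  inv_mem' := by
    rintro x ⟨w, hw, hx⟩
    exact ⟨w⁻¹, (WJ P J).inv_mem hw, cell_inv hx⟩

theorem exists_rep_of_word {J : Set G} (l : List P.S) (hl : ∀ s ∈ l, (s : G) ∈ J) :
    ∃ n ∈ Subgroup.closure J, ∃ hn : n ∈ P.N, wmk P n hn = wprod (sw P) l := by
  induction l with
  | nil => exact ⟨1, Subgroup.one_mem _, P.N.one_mem, rfl⟩
  | cons s l ih =>
    obtain ⟨n, h1, hn, h2⟩ := ih (fun t ht => hl t (List.mem_cons_of_mem _ ht))
    exact ⟨s * n, Subgroup.mul_mem _ (Subgroup.subset_closure (hl s List.mem_cons_self)) h1,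
      P.N.mul_mem (P.subset s.2) hn, by rw [wmk_mul P (P.subset s.2) hn, h2, wprod_cons]; rfl⟩

theorem cell_subset_of_rep_mem {M : Subgroup G} (hM : P.B ≤ M) {w : W P} {g : G} (hg : g ∈ cell P w)
    (hgM : g ∈ M) : cell P w ⊆ M := fun x hx => by
  obtain ⟨b, hb, b', hb', rfl⟩ := cell_exists hg hx
  exact M.mul_mem (M.mul_mem (hM hb) hgM) (hM hb')

theorem parabolic_eq_BWB {J : Set G} (hJ : J ⊆ P.S) : P.parabolic J = BWB P J := by
  apply le_antisymm
  · refine sup_le (fun b hb => ⟨1, (WJ P J).one_mem, (mem_cell_one P).mpr hb⟩)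
      ((Subgroup.closure_le _).mpr fun s hs => ?_)
    exact ⟨sw P ⟨s, hJ hs⟩, sw_mem_WJ P hs, s_mem_cell P ⟨s, hJ hs⟩⟩
  · rintro g ⟨_, ⟨l, hl, rfl⟩, hg⟩
    obtain ⟨n, h1, hn, h2⟩ := exists_rep_of_word P l hl
    rw [← h2] at hg
    exact cell_subset_of_rep_mem P (M := P.parabolic J) le_sup_left (self_mem_cell P hn)
      (Subgroup.mem_sup_right h1) hg

theorem mem_parabolic_iff {J : Set G} (hJ : J ⊆ P.S) {g : G} :
    g ∈ P.parabolic J ↔ ∃ w ∈ WJ P J, g ∈ cell P w := by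
  rw [parabolic_eq_BWB P hJ]; rfl

theorem B_le_parabolic (J : Set G) : P.B ≤ P.parabolic J := le_sup_left

theorem mem_parabolic_of_mem {J : Set G} {s : G} (hs : s ∈ J) : s ∈ P.parabolic J :=
  Subgroup.mem_sup_right (Subgroup.subset_closure hs)

theorem parabolic_S : P.parabolic P.S = ⊤ := by
  rw [eq_top_iff, ← P.sup_eq_top]
  refine sup_le le_sup_left ?_
  rw [← P.closure_sup]
  exact sup_le le_sup_right (inf_le_left.trans le_sup_left)

/-- Bruhat decomposition, existence. -/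
theorem exists_cell (g : G) : ∃ w, g ∈ cell P w := by
  have : g ∈ P.parabolic P.S := by rw [parabolic_S]; trivial
  obtain ⟨w, _, hw⟩ := (mem_parabolic_iff P subset_rfl).mp this
  exact ⟨w, hw⟩

theorem wmk_mem_WJ_of_mem_parabolic {J : Set G} (hJ : J ⊆ P.S) {w : W P} {g : G} (hg : g ∈ cell P w)
    (h : g ∈ P.parabolic J) : w ∈ WJ P J := by
  obtain ⟨w', hw', h'⟩ := (mem_parabolic_iff P hJ).mp h
  rwa [eq_of_mem_cell hg h']

end CL.BN
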