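import Cfsg.Agent.Base
import Cfsg.Agent.BN.Basic

/-!
# (B,N)-pairs: parabolic subgroups and Tits' simplicity theorem
-/

set_option autoImplicit false

namespace CL.BN

open Cfsg DoubleCoset

variable {G : Type*} [Group G] (P : BNPair G)

/-- If `M ≥ B` contains `g B g⁻¹` for `g` in the cell of a reduced word, it contains all letters. -/
theorem letters_mem_of_conj_le {M : Subgroup G} (hM : P.B ≤ M) (l : List P.S) (hl : (exch P).Reduced l) :
    ∀ g ∈ cell P (wprod (sw P) l), (∀ b ∈ P.B, g * b * g⁻¹ ∈ M) → ∀ s ∈ l, (s : G) ∈ M := by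
  induction l with
  | nil => intro g _ _ s hs; simp at hs
  | cons s l ih =>
    intro g hg hgM
    have hall : ∀ g' ∈ cell P (wprod (sw P) (s :: l)), ∀ b ∈ P.B, g' * b * g'⁻¹ ∈ M := by
      intro g' hg' b hb
      obtain ⟨c, hc, c', hc', rfl⟩ := cell_exists hg hg'
      have := hgM (c' * b * c'⁻¹) (P.B.mul_mem (P.B.mul_mem hc' hb) (P.B.inv_mem hc'))
      have e : c * g * c' * b * (c * g * c')⁻¹ = c * (g * (c' * b * c'⁻¹) * g⁻¹) * c⁻¹ := by group
      rw [e]
      exact M.mul_mem (M.mul_mem (hM hc) this) (M.inv_mem (hM hc))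
    have hs : (s : G) ∈ M := by
      obtain ⟨x, hx, y, hy, hxy⟩ := exists_mul_mem_cell_of_not_mem P hl.not_mem
      obtain ⟨c, hc, c', hc', h⟩ := cell_exists hy hxy
      have hx' : x ∈ M := by
        have e : x = c * (y * c' * y⁻¹) := by rw [← mul_assoc, ← mul_assoc, ← h]; group
        rw [e]
        exact M.mul_mem (hM hc) (hall y hy c' hc')
      exact cell_subset_of_rep_mem P hM hx hx' (s_mem_cell P s)
    intro t ht
    rcases List.mem_cons.mp ht with rfl | ht
    · exact hs
    obtain ⟨z, hz⟩ := cell_nonempty P (wprod (sw P) l)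
    have h1 : (s : G) * z ∈ cell P (wprod (sw P) (s :: l)) := by
      rw [wprod_cons]
      exact hl.tail_mem _ (s_mem_cell P s) z hz
    refine ih hl.tail z hz (fun b hb => ?_) t ht
    have := hall _ h1 b hb
    have e : z * b * z⁻¹ = (s : G)⁻¹ * (s * z * b * (s * z)⁻¹) * s := by group
    rw [e]
    exact M.mul_mem (M.mul_mem (M.inv_mem hs) this) hs

theorem cell_subset_of_letters {M : Subgroup G} (hM : P.B ≤ M) (l : List P.S)
    (hl : ∀ s ∈ l, (s : G) ∈ M) : cell P (wprod (sw P) l) ⊆ M := by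
  obtain ⟨n, h1, hn, h2⟩ := exists_rep_of_word P (J := (M : Set G)) l hl
  rw [← h2]
  rw [Subgroup.closure_eq] at h1
  exact cell_subset_of_rep_mem P hM (self_mem_cell P hn) h1

/-- A subgroup containing `B` and `g B g⁻¹` contains `g`. -/
theorem mem_of_conj_le {M : Subgroup G} (hM : P.B ≤ M) {g : G} (hg : ∀ b ∈ P.B, g * b * g⁻¹ ∈ M) :
    g ∈ M := by
  obtain ⟨w, hw⟩ := exists_cell P g
  obtain ⟨l, hl, rfl⟩ := (exch P).exists_reduced w
  exact cell_subset_of_letters P hM l (letters_mem_of_conj_le P hM l hl g hw hg) hw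

theorem letters_mem_of_mem {M : Subgroup G} (hM : P.B ≤ M) (l : List P.S) (hl : (exch P).Reduced l)
    {g : G} (hg : g ∈ cell P (wprod (sw P) l)) (hgM : g ∈ M) : ∀ s ∈ l, (s : G) ∈ M :=
  letters_mem_of_conj_le P hM l hl g hg fun _ hb =>
    M.mul_mem (M.mul_mem hgM (hM hb)) (M.inv_mem hgM)

/-- Every overgroup of `B` is the standard parabolic subgroup of the generators it contains. -/
theorem eq_parabolic {M : Subgroup G} (hM : P.B ≤ M) : M = P.parabolic (P.S ∩ M) := by
  apply le_antisymm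
  · intro g hg
    obtain ⟨w, hw⟩ := exists_cell P g
    obtain ⟨l, hl, rfl⟩ := (exch P).exists_reduced w
    exact cell_subset_of_letters P (B_le_parabolic P _) l (fun s hs =>
      mem_parabolic_of_mem P (J := P.S ∩ M) ⟨s.2, letters_mem_of_mem P hM l hl hw hg s hs⟩) hw
  · exact sup_le hM ((Subgroup.closure_le _).mpr Set.inter_subset_right)

theorem mem_of_sw_mem_WJ {J : Set G} {s : P.S} (h : sw P s ∈ WJ P J) : (s : G) ∈ J := by
  obtain ⟨l, hl, h⟩ := h
  obtain ⟨l', h1, h2, h3⟩ := (exch P).exists_reduced_sublist l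
  rw [exch_s, h] at h2
  have h4 : l'.length = 1 := by
    rw [← h1, exch_s, h2]; exact (exch P).len_s s
  obtain ⟨t, rfl⟩ := List.length_eq_one_iff.mp h4
  rw [wprod_singleton] at h2
  rw [← sw_injective P h2]
  exact hl t (h3.subset List.mem_cons_self)

theorem mem_of_mem_parabolic {J : Set G} (hJ : J ⊆ P.S) {s : G} (hs : s ∈ P.S)
    (h : s ∈ P.parabolic J) : s ∈ J :=
  mem_of_sw_mem_WJ P (s := ⟨s, hs⟩) (wmk_mem_WJ_of_mem_parabolic P hJ (s_mem_cell P ⟨s, hs⟩) h)

theorem S_inter_parabolic {J : Set G} (hJ : J ⊆ P.S) : P.S ∩ P.parabolic J = J :=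
  Set.Subset.antisymm (fun _ h => mem_of_mem_parabolic P hJ h.1 h.2)
    (fun _ h => ⟨hJ h, mem_parabolic_of_mem P h⟩)

theorem parabolic_mono {J K : Set G} (h : J ⊆ K) : P.parabolic J ≤ P.parabolic K :=
  sup_le_sup_left (Subgroup.closure_mono h) _

theorem parabolic_le_iff {J K : Set G} (hJ : J ⊆ P.S) (hK : K ⊆ P.S) :
    P.parabolic J ≤ P.parabolic K ↔ J ⊆ K :=
  ⟨fun h _ hs => mem_of_mem_parabolic P hK (hJ hs) (h (mem_parabolic_of_mem P hs)), parabolic_mono P⟩

theorem normalizer_eq_of_B_le {M : Subgroup G} (hM : P.B ≤ M) :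
    Subgroup.normalizer (M : Set G) = M :=
  le_antisymm (fun _ hg => mem_of_conj_le P hM fun b hb =>
    ((Subgroup.mem_normalizer_iff.mp hg) b).mp (hM hb)) Subgroup.le_normalizer

theorem normalizer_B : Subgroup.normalizer (P.B : Set G) = P.B := normalizer_eq_of_B_le P le_rfl

/-- A normal subgroup of a group with an irreducible (B,N)-pair lies in `B` or supplements `B`. -/
theorem normal_le_or_sup_eq_top (hirr : P.Irreducible) (H : Subgroup G) [hH : H.Normal] :
    H ≤ P.B ∨ P.B ⊔ H = ⊤ := by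
  set J : Set G := P.S ∩ (P.B ⊔ H : Subgroup G) with hJdef
  have hJ : J ⊆ P.S := Set.inter_subset_left
  have hM : P.B ⊔ H = P.parabolic J := eq_parabolic P le_sup_left
  rcases J.eq_empty_or_nonempty with h0 | h0
  · left
    rw [h0, BNPair.parabolic, Subgroup.closure_empty, sup_bot_eq] at hM
    exact le_sup_right.trans hM.le
  rcases (P.S \ J).eq_empty_or_nonempty with h1 | h1
  · right
    have : J = P.S := Set.Subset.antisymm hJ (Set.sdiff_eq_empty.mp h1)
    rw [hM, this, parabolic_S]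
  exfalso
  obtain ⟨s, hs, t, ht, hst⟩ := hirr J hJ h0 h1
  apply hst
  set s' : P.S := ⟨s, hJ hs⟩
  set t' : P.S := ⟨t, ht.1⟩
  have hne : sw P t' ∉ WJ P J := fun h => ht.2 (mem_of_sw_mem_WJ P h)
  have hsW : sw P s' ∈ WJ P J := sw_mem_WJ P hs
  -- an element of `H` in the cell of `s`
  obtain ⟨h, hh, hhc⟩ : ∃ h ∈ H, h ∈ cell P (sw P s') := by
    have h2 : s ∈ ((P.B ⊔ H : Subgroup G) : Set G) := hs.2
    rw [Subgroup.mul_normal] at h2
    obtain ⟨b, hb, h, hh, e⟩ := h2
    refine ⟨h, hh, ?_⟩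
    have e' : h = b⁻¹ * s := by rw [← e]; simp
    rw [e']
    exact cell_mul_left (P.B.inv_mem hb) (s_mem_cell P s')
  have hP : sw P s' ∈ (exch P).P t' := by
    by_contra hn
    have h3 := (exch P).len_s_mul_of_not_mem hn
    have h4 := (exch P).len_s s'
    rw [exch_s] at h3 h4
    have h5 := (exch P).eq_one_of_len_eq_zero (w := sw P t' * sw P s') (by omega)
    rw [eq_inv_of_mul_eq_one_left h5] at hne
    exact hne ((WJ P J).inv_mem hsW)
  have hc1 := hP _ (s_mem_cell P t') h hhc
  have htinv : (t' : G)⁻¹ ∈ cell P (sw P t') := by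
    have := cell_inv (s_mem_cell P t'); rwa [sw_inv] at this
  have hmem : (t' : G) * h * (t' : G)⁻¹ ∈ P.parabolic J := by
    rw [← hM]; exact Subgroup.mem_sup_right (hH.conj_mem h hh _)
  have htst : sw P t' * sw P s' * sw P t' ∈ WJ P J := by
    rcases cell_mul_s hc1 htinv with h6 | h6
    · exact wmk_mem_WJ_of_mem_parabolic P hJ h6 hmem
    · have := wmk_mem_WJ_of_mem_parabolic P hJ h6 hmem
      exact absurd (by simpa using (WJ P J).mul_mem this ((WJ P J).inv_mem hsW)) hne
  -- `t s t` is not a reduced word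
  have hcomm : sw P t' * sw P s' * sw P t' = sw P s' := by
    have hP' : sw P t' ∈ (exch P).P s' := by
      by_contra hn
      have h3 := (exch P).len_s_mul_of_not_mem hn
      have h4 := (exch P).len_s t'
      rw [exch_s] at h3 h4
      have h5 := (exch P).eq_one_of_len_eq_zero (w := sw P s' * sw P t') (by omega)
      rw [eq_inv_of_mul_eq_one_right h5] at hne
      exact hne ((WJ P J).inv_mem hsW)
    have hr1 : (exch P).Reduced [t'] :=
      (ExchData.Reduced.nil (exch P)).cons ((exch P).one_mem t')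
    have hr2 : (exch P).Reduced [s', t'] := hr1.cons (by rw [wprod_singleton]; exact hP')
    have hw2 : wprod (sw P) [s', t'] = sw P s' * sw P t' := by simp [wprod]
    by_cases hq : wprod (exch P).s [s', t'] ∈ (exch P).P t'
    · exfalso
      have hr3 := hr2.cons hq
      have hw3 : wprod (sw P) [t', s', t'] = sw P t' * sw P s' * sw P t' := by simp [wprod, mul_assoc]
      obtain ⟨z, hz⟩ := cell_nonempty P (wprod (sw P) [t', s', t'])
      have hz' : z ∈ P.parabolic J := (mem_parabolic_iff P hJ).mpr ⟨_, hw3 ▸ htst, hz⟩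
      exact ht.2 (mem_of_mem_parabolic P hJ ht.1
        (letters_mem_of_mem P (B_le_parabolic P J) _ hr3 hz hz' t' List.mem_cons_self))
    · obtain ⟨l₁, j, l₂, e1, e2⟩ := (exch P).exchange t' _ hq
      rw [exch_s, hw2, ← mul_assoc] at e2
      match l₁, e1 with
      | [], e1 =>
        simp only [List.nil_append, List.cons.injEq] at e1
        rw [List.nil_append, ← e1.2, wprod_singleton] at e2
        rw [e2] at htst
        exact absurd htst hne
      | [a], e1 =>
        simp only [List.cons_append, List.nil_append, List.cons.injEq] at e1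
        rw [← e1.2.2, ← e1.1, List.append_nil, wprod_singleton] at e2
        exact e2
      | a :: b :: l, e1 => simp at e1
  have hN : s * t * s⁻¹ * t⁻¹ ∈ P.N :=
    P.N.mul_mem (P.N.mul_mem (P.N.mul_mem (P.subset (hJ hs)) (P.subset ht.1))
      (P.N.inv_mem (P.subset (hJ hs)))) (P.N.inv_mem (P.subset ht.1))
  rw [← wmk_eq_one_iff P hN]
  change sw P s' * sw P t' * (sw P s')⁻¹ * (sw P t')⁻¹ = 1
  rw [sw_inv, sw_inv, mul_assoc, mul_assoc, ← mul_assoc (sw P t'), hcomm, sw_sq]

/-- Tits' theorem in the form with a solvable normal subgroup `U` of `B` whose conjugates generate the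
perfect group `G`: every normal subgroup lies in `B` or is everything. -/
theorem normal_le_or_eq_top_of_U (hirr : P.Irreducible) (hperf : commutator G = ⊤) (U : Subgroup G)
    (hUB : ∀ b ∈ P.B, ∀ u ∈ U, b * u * b⁻¹ ∈ U) (hU : Group.IsSolvable U)
    (hgen : Subgroup.normalClosure (U : Set G) = ⊤) (H : Subgroup G) [hH : H.Normal] :
    H ≤ P.B ∨ H = ⊤ := by
  rcases normal_le_or_sup_eq_top P hirr H with h | h
  · exact Or.inl h
  right
  have hnorm : (U ⊔ H).Normal := by
    refine ⟨fun x hx g => ?_⟩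
    have hg : g ∈ ((P.B ⊔ H : Subgroup G) : Set G) := by rw [h]; trivial
    have hx' : x ∈ ((U ⊔ H : Subgroup G) : Set G) := hx
    rw [Subgroup.mul_normal] at hg hx'
    obtain ⟨b, hb, k, hk, rfl⟩ := hg
    obtain ⟨u, hu, k', hk', rfl⟩ := hx'
    have e : b * k * (u * k') * (b * k)⁻¹ = (b * u * b⁻¹) * (b * (u⁻¹ * k * u⁻¹⁻¹ * k' * k⁻¹) * b⁻¹) := by
      group
    simp only
    rw [e]
    exact Subgroup.mul_mem_sup (hUB b hb u hu) (hH.conj_mem _ (H.mul_mem (H.mul_mem
      (hH.conj_mem _ hk _) hk') (H.inv_mem hk)) _)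
  have htop : U ⊔ H = ⊤ := by
    rw [eq_top_iff, ← hgen]
    exact Subgroup.normalClosure_le_normal (fun x hx => Subgroup.mem_sup_left hx)
  have hsurj : Function.Surjective ((QuotientGroup.mk' H).comp U.subtype) := by
    intro x
    obtain ⟨g, rfl⟩ := QuotientGroup.mk_surjective x
    have hg : g ∈ ((U ⊔ H : Subgroup G) : Set G) := by rw [htop]; trivial
    rw [Subgroup.mul_normal] at hg
    obtain ⟨u, hu, k, hk, rfl⟩ := hg
    refine ⟨⟨u, hu⟩, ?_⟩
    simp only [MonoidHom.comp_apply, Subgroup.subtype_apply, QuotientGroup.mk'_apply]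
    rw [QuotientGroup.eq]; simpa using hk
  have hsolv : Group.IsSolvable (G ⧸ H) := Group.isSolvable_of_surjective hsurj
  have hp : commutator (G ⧸ H) = ⊤ := by
    rw [commutator, ← Subgroup.map_top_of_surjective (QuotientGroup.mk' H) (QuotientGroup.mk'_surjective H),
      ← Subgroup.map_commutator, ← commutator, hperf]
  by_contra hne
  have : Nontrivial (G ⧸ H) := QuotientGroup.nontrivial_iff.mpr hne
  exact (Group.IsSolvable.commutator_lt_top_of_nontrivial (G ⧸ H)).ne hp

/-- Tits' theorem: `B` solvable, `G` perfect. Every normal subgroup lies in the core of `B` or is `G`. -/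
theorem normal_le_core_or_eq_top (hirr : P.Irreducible) (hsolv : Group.IsSolvable P.B)
    (hperf : commutator G = ⊤) (H : Subgroup G) [hH : H.Normal] : H ≤ P.B.normalCore ∨ H = ⊤ := by
  rcases normal_le_or_sup_eq_top P hirr H with h | h
  · exact Or.inl (Subgroup.normal_le_normalCore.mpr h)
  right
  have hsurj : Function.Surjective ((QuotientGroup.mk' H).comp P.B.subtype) := by
    intro x
    obtain ⟨g, rfl⟩ := QuotientGroup.mk_surjective x
    have hg : g ∈ ((P.B ⊔ H : Subgroup G) : Set G) := by rw [h]; trivial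
    rw [Subgroup.mul_normal] at hg
    obtain ⟨u, hu, k, hk, rfl⟩ := hg
    refine ⟨⟨u, hu⟩, ?_⟩
    simp only [MonoidHom.comp_apply, Subgroup.subtype_apply, QuotientGroup.mk'_apply]
    rw [QuotientGroup.eq]; simpa using hk
  have hsolv' : Group.IsSolvable (G ⧸ H) := Group.isSolvable_of_surjective hsurj
  have hp : commutator (G ⧸ H) = ⊤ := by
    rw [commutator, ← Subgroup.map_top_of_surjective (QuotientGroup.mk' H) (QuotientGroup.mk'_surjective H),
      ← Subgroup.map_commutator, ← commutator, hperf]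
  by_contra hne
  have : Nontrivial (G ⧸ H) := QuotientGroup.nontrivial_iff.mpr hne
  exact (Group.IsSolvable.commutator_lt_top_of_nontrivial (G ⧸ H)).ne hp

/-- Tits' theorem, quotient form: if the core of `B` is the normal subgroup `Z`, then `G / Z` is simple. -/
theorem isSimpleGroup_quotient (hirr : P.Irreducible) (hsolv : Group.IsSolvable P.B)
    (hperf : commutator G = ⊤) (Z : Subgroup G) [Z.Normal] (hZ : P.B.normalCore ≤ Z) (hZ' : Z ≠ ⊤) :
    IsSimpleGroup (G ⧸ Z) := by
  have : Nontrivial (G ⧸ Z) := QuotientGroup.nontrivial_iff.mpr hZ'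
  refine ⟨fun K hK => ?_⟩
  rcases normal_le_core_or_eq_top P hirr hsolv hperf (K.comap (QuotientGroup.mk' Z)) with h | h
  · left
    rw [eq_bot_iff]
    intro x hx
    obtain ⟨g, rfl⟩ := QuotientGroup.mk_surjective x
    rw [Subgroup.mem_bot, QuotientGroup.eq_one_iff]
    exact hZ (h hx)
  · right
    rw [eq_top_iff]
    intro x _
    obtain ⟨g, rfl⟩ := QuotientGroup.mk_surjective x
    have : g ∈ K.comap (QuotientGroup.mk' Z) := by rw [h]; trivial
    exact this

end CL.BN
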